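import Mathlib

/-!
Helper14 (S2405): abstract group-theoretic steps of Steinberg's generation argument.
-/

set_option autoImplicit false

namespace Cfsg.Agent.Helper14.Gen2

variable {F : Type*} [Field F] {Γ : Type*} [Group Γ]

/-- commuting elements of coprime orders are powers of their product -/
theorem mem_of_mul_mem_of_coprime (L : Subgroup Γ) (h e : Γ) (hc : Commute h e) (N p : ℕ) (hN : h ^ N = 1)
    (hp : e ^ p = 1) (hcop : Nat.Coprime N p) (hL : h * e ∈ L) : h ∈ L ∧ e ∈ L := by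
  have h1 : (h * e) ^ N = e ^ N := by rw [hc.mul_pow, hN, one_mul]
  have h2 : e ^ N ∈ L := by rw [← h1]; exact L.pow_mem hL N
  have h3 : e ∈ L := by
    have hgcd : (Int.gcd (N : ℤ) (p : ℤ)) = 1 := by
      rw [Int.gcd_natCast_natCast]; exact hcop
    have hb := Int.gcd_eq_gcd_ab (N : ℤ) (p : ℤ)
    rw [hgcd] at hb
    have : e = (e ^ N) ^ (Int.gcdA (N : ℤ) (p : ℤ)) * (e ^ p) ^ (Int.gcdB (N : ℤ) (p : ℤ)) := by
      rw [← zpow_natCast e N, ← zpow_natCast e p, ← zpow_mul, ← zpow_mul, ← zpow_add]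
      have : (N : ℤ) * Int.gcdA (N : ℤ) (p : ℤ) + (p : ℤ) * Int.gcdB (N : ℤ) (p : ℤ) = 1 := by
        rw [← hb]; simp
      rw [this, zpow_one]
    rw [this, hp, one_zpow, mul_one]
    exact L.zpow_mem h2 _
  refine ⟨?_, h3⟩
  have : h = h * e * e⁻¹ := by group
  rw [this]
  exact L.mul_mem hL (L.inv_mem h3)

section Trick

variable (x : F → Γ) (hadd : ∀ s t, x (s + t) = x s * x t)
include hadd

theorem x_zero_of_add : x 0 = 1 := by
  have := hadd 0 0
  simpa using this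

theorem x_neg_of_add (t : F) : x (-t) = (x t)⁻¹ := by
  apply eq_inv_of_mul_eq_one_left
  rw [← hadd, neg_add_cancel, x_zero_of_add x hadd]

/-- Steinberg's trick: from a torus element `h` and `x(1) n` one gets a non-trivial element of the root subgroup,
provided `h` and its conjugate `n h n⁻¹` commute and both normalise `x` -/
theorem steinberg_trick (h n : Γ) (β β₂ : F)
    (hx : ∀ u, h * x u * h⁻¹ = x (β * u))
    (hx₂ : ∀ u, (n * h * n⁻¹) * x u * (n * h * n⁻¹)⁻¹ = x (β₂ * u))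
    (hcomm : Commute h (n * h * n⁻¹)) (hβ₂ : β₂ ≠ 0) (L : Subgroup Γ) (hL : h ∈ L) (hb : x 1 * n ∈ L) :
    x ((β - 1) * (β * (1 - β₂⁻¹))) ∈ L := by
  set h₂ := n * h * n⁻¹ with hh₂
  set d := h * h₂⁻¹ with hd
  set b := x 1 * n with hbdef
  have xneg := x_neg_of_add x hadd
  -- `h₂⁻¹ x(u) h₂ = x(β₂⁻¹ u)`
  have hx₂' : ∀ u, h₂⁻¹ * x u * h₂ = x (β₂⁻¹ * u) := by
    intro u
    have := hx₂ (β₂⁻¹ * u)
    rw [mul_inv_cancel_left₀ hβ₂] at this
    rw [← this]; group
  have hdx : ∀ u, d * x u * d⁻¹ = x (β * (β₂⁻¹ * u)) := by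
    intro u
    have e1 : d * x u * d⁻¹ = h * (h₂⁻¹ * x u * h₂) * h⁻¹ := by rw [hd]; group
    rw [e1, hx₂', hx]
  have hhd : h * d * h⁻¹ = d := by
    have hc2 : h * h₂⁻¹ = h₂⁻¹ * h := (hcomm.inv_right).eq
    rw [hd]
    calc h * (h * h₂⁻¹) * h⁻¹ = h * (h₂⁻¹ * h) * h⁻¹ := by rw [hc2]
      _ = h * h₂⁻¹ := by group
  set c₁ := h * b * h⁻¹ * b⁻¹ with hc₁
  have hc₁L : c₁ ∈ L := L.mul_mem (L.mul_mem (L.mul_mem hL hb) (L.inv_mem hL)) (L.inv_mem hb)
  have hc₁eq : c₁ = x (β * (1 - β₂⁻¹)) * d := by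
    have e1 : c₁ = (h * x 1 * h⁻¹) * d * (x 1)⁻¹ := by
      rw [hc₁, hbdef, hd, hh₂]; group
    have e2 : d * (x 1)⁻¹ = x (-(β * (β₂⁻¹ * 1))) * d := by
      have := hdx (-1)
      rw [xneg 1] at this
      have e3 : β * (β₂⁻¹ * -1) = -(β * (β₂⁻¹ * 1)) := by ring
      rw [e3] at this
      rw [← this]; group
    rw [e1, hx, mul_assoc, e2, ← mul_assoc, ← hadd]
    congr 2
    ring
  set c₂ := h * c₁ * h⁻¹ * c₁⁻¹ with hc₂
  have hc₂L : c₂ ∈ L := L.mul_mem (L.mul_mem (L.mul_mem hL hc₁L) (L.inv_mem hL)) (L.inv_mem hc₁L)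
  have hc₂eq : c₂ = x ((β - 1) * (β * (1 - β₂⁻¹))) := by
    have e1 : h * c₁ * h⁻¹ = x (β * (β * (1 - β₂⁻¹))) * d := by
      have : h * c₁ * h⁻¹ = (h * x (β * (1 - β₂⁻¹)) * h⁻¹) * (h * d * h⁻¹) := by rw [hc₁eq]; group
      rw [this, hx, hhd]
    rw [hc₂, e1, hc₁eq, mul_inv_rev, ← xneg]
    have : x (β * (β * (1 - β₂⁻¹))) * d * (d⁻¹ * x (-(β * (1 - β₂⁻¹)))) =
        x (β * (β * (1 - β₂⁻¹))) * x (-(β * (1 - β₂⁻¹))) := by group
    rw [this, ← hadd]
    congr 1
    ring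
  rw [← hc₂eq]
  exact hc₂L

omit hadd in
/-- conjugation by the powers of a torus element -/
theorem x_scale_pow_mem (h : Γ) (β : F) (hx : ∀ u, h * x u * h⁻¹ = x (β * u)) (L : Subgroup Γ) (hL : h ∈ L)
    (c : F) (hc : x c ∈ L) (k : ℕ) : x (β ^ k * c) ∈ L := by
  have hpow : ∀ j : ℕ, h ^ j * x c * (h ^ j)⁻¹ = x (β ^ j * c) := by
    intro j
    induction j with
    | zero => simp
    | succ j ih =>
      have : h ^ (j + 1) * x c * (h ^ (j + 1))⁻¹ = h * (h ^ j * x c * (h ^ j)⁻¹) * h⁻¹ := by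
        rw [pow_succ']; group
      rw [this, ih, hx]
      congr 1
      ring
  rw [← hpow k]
  exact L.mul_mem (L.mul_mem (L.pow_mem hL k) hc) (L.inv_mem (L.pow_mem hL k))

end Trick

/-- an additive subgroup of a finite field containing a non-zero element and stable under multiplication by `t ^ 2`,
`t` a generator of the multiplicative group, is everything -/
theorem addSubgroup_eq_top_of_sq [Fintype F] (S : AddSubgroup F) {t c : F}
    (ht : ∀ z : F, z ≠ 0 → ∃ j : ℕ, z = t ^ j) (hc : c ∈ S) (hc0 : c ≠ 0)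
    (hS : ∀ s ∈ S, t ^ 2 * s ∈ S) : S = ⊤ := by
  have h1 : ∀ j : ℕ, ∀ s ∈ S, t ^ (2 * j) * s ∈ S := by
    intro j
    induction j with
    | zero => intro s hs; simpa using hs
    | succ j ih =>
      intro s hs
      have := hS _ (ih s hs)
      have e : t ^ (2 * (j + 1)) * s = t ^ 2 * (t ^ (2 * j) * s) := by ring
      rw [e]
      exact this
  have h2 : ∀ z : F, ∀ s ∈ S, z ^ 2 * s ∈ S := by
    intro z s hs
    by_cases hz : z = 0
    · subst hz
      simp
    · obtain ⟨j, rfl⟩ := ht z hz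
      have e : (t ^ j) ^ 2 = t ^ (2 * j) := by rw [← pow_mul, mul_comm]
      rw [e]
      exact h1 j s hs
  have h3 : ∀ u : F, u * c ∈ S := by
    intro u
    by_cases hch : ringChar F = 2
    · obtain ⟨r, hr⟩ := FiniteField.isSquare_of_char_two hch u
      have e : u * c = r ^ 2 * c := by rw [hr]; ring
      rw [e]
      exact h2 r c hc
    · have h20 : (2 : F) ≠ 0 := Ring.two_ne_zero hch
      have e : u * c = ((u + 1) / 2) ^ 2 * c - ((u - 1) / 2) ^ 2 * c := by
        field_simp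
        ring
      rw [e]
      exact S.sub_mem (h2 _ c hc) (h2 _ c hc)
  rw [eq_top_iff]
  intro y _
  have e : y = (y / c) * c := by field_simp
  rw [e]
  exact h3 _

/-- filling a root subgroup: if `h` scales `x` by `t ^ e`, `e ∈ {1, -1, 2, -2}`, `t` a generator of `Fˣ`, then `h` and one
non-trivial `x(c)` generate all `x(u)` -/
theorem x_mem_of_scale [Fintype F] (x : F → Γ) (hadd : ∀ s t, x (s + t) = x s * x t) (h : Γ) (t : F) (e : ℤ)
    (he : e = 1 ∨ e = -1 ∨ e = 2 ∨ e = -2) (ht0 : t ≠ 0) (ht : ∀ z : F, z ≠ 0 → ∃ j : ℕ, z = t ^ j)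
    (hx : ∀ u, h * x u * h⁻¹ = x (t ^ e * u)) (L : Subgroup Γ) (hL : h ∈ L) (c : F) (hc0 : c ≠ 0)
    (hc : x c ∈ L) (u : F) : x u ∈ L := by
  classical
  -- the additive subgroup of parameters
  let S : AddSubgroup F :=
    { carrier := {v | x v ∈ L}
      zero_mem' := by
        show x 0 ∈ L
        rw [x_zero_of_add x hadd]; exact L.one_mem
      add_mem' := by
        intro a b ha hb
        show x (a + b) ∈ L
        rw [hadd]; exact L.mul_mem ha hb
      neg_mem' := by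
        intro a ha
        show x (-a) ∈ L
        rw [x_neg_of_add x hadd]; exact L.inv_mem ha }
  have hmem : ∀ v, v ∈ S ↔ x v ∈ L := fun v => Iff.rfl
  have hβ : ∀ s ∈ S, t ^ e * s ∈ S := by
    intro s hs
    rw [hmem] at hs ⊢
    rw [← hx]
    exact L.mul_mem (L.mul_mem hL hs) (L.inv_mem hL)
  have hβinv : ∀ s ∈ S, (t ^ e)⁻¹ * s ∈ S := by
    intro s hs
    rw [hmem] at hs ⊢
    have h1 := hx ((t ^ e)⁻¹ * s)
    rw [mul_inv_cancel_left₀ (zpow_ne_zero e ht0)] at h1
    have : x ((t ^ e)⁻¹ * s) = h⁻¹ * x s * h := by rw [← h1]; group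
    rw [this]
    exact L.mul_mem (L.mul_mem (L.inv_mem hL) hs) hL
  -- stability under `t ^ 2`
  have hsq : ∀ s ∈ S, t ^ 2 * s ∈ S := by
    intro s hs
    rcases he with rfl | rfl | rfl | rfl
    · have := hβ _ (hβ s hs)
      simp only [zpow_one] at this
      have e2 : t ^ 2 * s = t * (t * s) := by ring
      rw [e2]; exact this
    · have := hβinv _ (hβinv s hs)
      simp only [zpow_neg, zpow_one, inv_inv] at this
      have e2 : t ^ 2 * s = t * (t * s) := by ring
      rw [e2]; exact this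
    · have := hβ s hs
      have e2 : t ^ (2 : ℤ) = t ^ 2 := by norm_cast
      rw [e2] at this; exact this
    · have := hβinv s hs
      have e2 : (t ^ (-2 : ℤ))⁻¹ = t ^ 2 := by
        rw [zpow_neg, inv_inv]; norm_cast
      rw [e2] at this; exact this
  have hS : S = ⊤ := addSubgroup_eq_top_of_sq S ht (c := c) ((hmem c).mpr hc) hc0 hsq
  have : u ∈ S := by rw [hS]; trivial
  exact (hmem u).mp this

/-- a generator of the multiplicative group of a finite field -/
theorem exists_field_generator [Fintype F] :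
    ∃ t : F, t ≠ 0 ∧ (∀ z : F, z ≠ 0 → ∃ j : ℕ, z = t ^ j) ∧ (2 < Fintype.card F → t ≠ 1) ∧
      t ^ (Fintype.card F - 1) = 1 := by
  classical
  obtain ⟨g, hg⟩ := IsCyclic.exists_generator (α := Fˣ)
  have hpow : ∀ y : F, y ≠ 0 → ∃ j : ℕ, y = (g : F) ^ j := by
    intro y hy
    have h1 : Units.mk0 y hy ∈ Submonoid.powers g := by
      rw [mem_powers_iff_mem_zpowers]
      exact hg _
    obtain ⟨j, hj⟩ := Submonoid.mem_powers_iff _ _ |>.1 h1
    refine ⟨j, ?_⟩
    have h2 := congrArg (fun x : Fˣ => (x : F)) hj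
    simp only [Units.val_pow_eq_pow_val, Units.val_mk0] at h2
    exact h2.symm
  refine ⟨(g : F), g.ne_zero, hpow, ?_, ?_⟩
  · intro hcard h1
    -- every non-zero element is `1`
    have hall : ∀ y : F, y ≠ 0 → y = 1 := by
      intro y hy
      obtain ⟨j, hj⟩ := hpow y hy
      rw [hj, h1, one_pow]
    have : Fintype.card F ≤ 2 := by
      have hsub : (Finset.univ : Finset F) ⊆ {0, 1} := by
        intro y _
        by_cases hy : y = 0
        · simp [hy]
        · simp [hall y hy]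
      calc Fintype.card F = (Finset.univ : Finset F).card := rfl
        _ ≤ ({0, 1} : Finset F).card := Finset.card_le_card hsub
        _ ≤ 2 := Finset.card_le_two
    omega
  · exact FiniteField.pow_card_sub_one_eq_one (g : F) g.ne_zero

end Cfsg.Agent.Helper14.Gen2
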