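import Cfsg.Agent.Helper14.Gen2.Torus

/-!
Helper14 (S2405): the two generic generation theorems.

Case A: `a = h_θ(t) x_r(1)`, `b = n_w` with `⟨r, θ⟩ = 0` and `⟨w r, θ⟩ ∈ {±1, ±2}`; the closure certificate starts from `w r`.

Case B: `a = h_θ(t) x_s(1)`, `b = x_β(1) n_w` with `⟨s, θ⟩ = 0`, `⟨β, θ⟩ = ±1`, `⟨w⁻¹ β, θ⟩ = ±1`, `⟨w s, θ⟩ ∈ {±1, ±2}`, over a field with more
than two elements; the closure certificate starts from `β` and `w s`.
-/

set_option autoImplicit false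

namespace Cfsg.Agent.Helper14.Gen2

open Cfsg Cfsg.Lie Cfsg.Agent.Helper18 Cfsg.Agent.Helper40.GenNX Cfsg.Agent.Helper40.GenQ2

/-- the numerical conditions of case A -/
def caseAOK (D : ChevalleyDatum) (cw : List ℕ) (invL vanL : List ℤ) (θ r : ℕ)
    (steps : List (ℕ × ℕ × ℕ × ℕ)) : Bool :=
  decide (θ < D.nroots) && decide (r < D.nroots) && cw.all (fun i => decide (i < D.rank)) &&
  decide (pairing' D θ r = 0) &&
  decide (pairing' D θ (rho D cw r) = 1 ∨ pairing' D θ (rho D cw r) = -1 ∨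
    pairing' D θ (rho D cw r) = 2 ∨ pairing' D θ (rho D cw r) = -2) &&
  certOK D cw invL vanL [rho D cw r] steps

/-- the numerical conditions of case B -/
def caseBOK (D : ChevalleyDatum) (cw : List ℕ) (invL vanL : List ℤ) (θ b₂ s : ℕ)
    (steps : List (ℕ × ℕ × ℕ × ℕ)) : Bool :=
  decide (θ < D.nroots) && decide (b₂ < D.nroots) && decide (s < D.nroots) &&
  cw.all (fun i => decide (i < D.rank)) &&
  decide (pairing' D θ (rho D cw b₂) = 1 ∨ pairing' D θ (rho D cw b₂) = -1) &&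
  decide (pairing' D θ b₂ = 1 ∨ pairing' D θ b₂ = -1) &&
  decide (pairing' D θ s = 0) &&
  decide (pairing' D θ (rho D cw s) = 1 ∨ pairing' D θ (rho D cw s) = -1 ∨
    pairing' D θ (rho D cw s) = 2 ∨ pairing' D θ (rho D cw s) = -2) &&
  certOK D cw invL vanL [rho D cw b₂, rho D cw s] steps

section
variable {F : Type*} [Field F] [Fintype F] (D : ChevalleyDatum)
  (hD : D ∈ [chevG2, chevB2, chevD4, chevF4, chevE6, chevE7, chevE8])
include hD

/-- splitting `h_θ(t) x_r(1)` when `⟨r, θ⟩ = 0` -/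
theorem split_mem (M : Subgroup (GL D.Idx F)) (θ r : ℕ) (hθ : θ < D.nroots) (hr : r < D.nroots)
    (hp0 : pairing' D θ r = 0) (t : F) (ht : t ≠ 0) (h1 : hGL D F θ t * xGL D F r 1 ∈ M) :
    hGL D F θ t ∈ M ∧ xGL D F r 1 ∈ M := by
  obtain ⟨p, hp⟩ := CharP.exists F
  have hcomm : Commute (hGL D F θ t) (xGL D F r 1) := by
    have := hGL_conj D hD θ r hθ hr t ht 1
    rw [hp0, zpow_zero, one_mul] at this
    unfold Commute SemiconjBy
    calc hGL D F θ t * xGL D F r 1 = (hGL D F θ t * xGL D F r 1 * (hGL D F θ t)⁻¹) * hGL D F θ t := by group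
      _ = xGL D F r 1 * hGL D F θ t := by rw [this]
  have hh : hGL D F θ t ^ (Fintype.card F - 1) = 1 := diag_pow_card D hD _ (hGL_mem_diag D hD θ hθ t ht)
  have hx : xGL D F r (1 : F) ^ p = 1 := xGL_pow_char D hD r 1 p (CharP.cast_eq_zero F p)
  exact mem_of_mul_mem_of_coprime M _ _ hcomm _ _ hh hx (coprime_card_sub_one p) h1

/-- filling the root subgroup of `w s` from `x_s(1)`, `h_θ(t)`, `n_w` -/
theorem fill_rho (M : Subgroup (GL D.Idx F)) (cw : List ℕ) (hcw : ∀ i ∈ cw, i < D.rank) (θ s : ℕ)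
    (hθ : θ < D.nroots) (hs : s < D.nroots)
    (he : pairing' D θ (rho D cw s) = 1 ∨ pairing' D θ (rho D cw s) = -1 ∨
      pairing' D θ (rho D cw s) = 2 ∨ pairing' D θ (rho D cw s) = -2)
    (t : F) (ht : t ≠ 0) (htgen : ∀ z : F, z ≠ 0 → ∃ j : ℕ, z = t ^ j)
    (hn : nWordsGL D F cw ∈ M) (hh : hGL D F θ t ∈ M) (hx : xGL D F s 1 ∈ M) :
    rho D cw s < D.nroots ∧ RootIn D M (rho D cw s) := by
  obtain ⟨hlt, c', hc'0, hc'M⟩ := exists_xGL_rho_mem D hD M cw hcw hn s hs 1 one_ne_zero hx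
  refine ⟨hlt, fun u => ?_⟩
  exact x_mem_of_scale (fun v => xGL D F (rho D cw s) v) (fun a b => xGL_add D hD _ a b) (hGL D F θ t) t
    (pairing' D θ (rho D cw s)) he ht htgen (fun u => hGL_conj D hD θ _ hθ hlt t ht u) M hh c' hc'0 hc'M u

/-- case A -/
theorem caseA (cw : List ℕ) (invL vanL : List ℤ) (θ r : ℕ) (steps : List (ℕ × ℕ × ℕ × ℕ))
    (hok : caseAOK D cw invL vanL θ r steps = true)
    (hinv : ∀ C ∈ invL, ((C : ℤ) : F) ≠ 0) (hvan : ∀ C ∈ vanL, ((C : ℤ) : F) = 0) :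
    ∃ a b : ↥(D.group F), Subgroup.closure ({a, b} : Set ↥(D.group F)) = ⊤ := by
  simp only [caseAOK, Bool.and_eq_true, decide_eq_true_eq, List.all_eq_true] at hok
  obtain ⟨⟨⟨⟨⟨hθ, hr⟩, hcw⟩, hp0⟩, he⟩, hcert⟩ := hok
  obtain ⟨t, ht0, htgen, -, -⟩ := exists_field_generator (F := F)
  apply two_gen_of D (hGL D F θ t * xGL D F r 1) (nWordsGL D F cw)
    (mul_mem (hGL_mem_group D hD θ hθ t ht0) (xGL_mem_group D hD r 1)) (nWordsGL_mem_group D hD cw hcw)
  intro M h1 h2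
  obtain ⟨hhM, hxM⟩ := split_mem D hD M θ r hθ hr hp0 t ht0 h1
  have hfill := fill_rho D hD M cw hcw θ r hθ hr he t ht0 htgen h2 hhM hxM
  apply group_le_of_certOK D hD M cw hcw h2 invL vanL hinv hvan [rho D cw r] _ steps hcert
  intro s hs
  rw [List.mem_singleton] at hs
  rw [hs]
  exact hfill

/-- case B -/
theorem caseB (hq : 2 < Fintype.card F) (cw : List ℕ) (invL vanL : List ℤ) (θ b₂ s : ℕ)
    (steps : List (ℕ × ℕ × ℕ × ℕ))
    (hok : caseBOK D cw invL vanL θ b₂ s steps = true)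
    (hinv : ∀ C ∈ invL, ((C : ℤ) : F) ≠ 0) (hvan : ∀ C ∈ vanL, ((C : ℤ) : F) = 0) :
    ∃ a b : ↥(D.group F), Subgroup.closure ({a, b} : Set ↥(D.group F)) = ⊤ := by
  simp only [caseBOK, Bool.and_eq_true, decide_eq_true_eq, List.all_eq_true] at hok
  obtain ⟨⟨⟨⟨⟨⟨⟨⟨hθ, hb₂⟩, hs⟩, hcw⟩, heb⟩, heb₂⟩, hp0⟩, he⟩, hcert⟩ := hok
  obtain ⟨t, ht0, htgen, ht1, -⟩ := exists_field_generator (F := F)
  have ht1 := ht1 hq
  obtain ⟨hblt, -⟩ := word_conj D hD (F := F) cw hcw b₂ hb₂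
  apply two_gen_of D (hGL D F θ t * xGL D F s 1) (xGL D F (rho D cw b₂) 1 * nWordsGL D F cw)
    (mul_mem (hGL_mem_group D hD θ hθ t ht0) (xGL_mem_group D hD s 1))
    (mul_mem (xGL_mem_group D hD (rho D cw b₂) 1) (nWordsGL_mem_group D hD cw hcw))
  intro M h1 h2
  obtain ⟨hhM, hxM⟩ := split_mem D hD M θ s hθ hs hp0 t ht0 h1
  -- the Steinberg trick
  have hzne : ∀ e : ℤ, (e = 1 ∨ e = -1) → t ^ e ≠ 1 := by
    intro e he
    rcases he with rfl | rfl
    · simpa using ht1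
    · rw [zpow_neg, zpow_one]
      intro h
      exact ht1 (inv_eq_one.mp h)
  have htrick := steinberg_trick (fun u => xGL D F (rho D cw b₂) u) (fun a c => xGL_add D hD (rho D cw b₂) a c) (hGL D F θ t)
    (nWordsGL D F cw) (t ^ pairing' D θ (rho D cw b₂)) (t ^ pairing' D θ b₂)
    (fun u => hGL_conj D hD θ (rho D cw b₂) hθ hblt t ht0 u)
    (fun u => conj_hGL_conj D hD cw hcw θ b₂ hθ hb₂ t ht0 u)
    (diag_commute D hD _ _ (hGL_mem_diag D hD θ hθ t ht0)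
      (conj_mem_diag D hD _ _ (nWordsGL_mem D hD cw hcw) (hGL_mem_diag D hD θ hθ t ht0)))
    (zpow_ne_zero _ ht0) M hhM h2
  have hne : (t ^ pairing' D θ (rho D cw b₂) - 1) * (t ^ pairing' D θ (rho D cw b₂) * (1 - (t ^ pairing' D θ b₂)⁻¹)) ≠ 0 := by
    apply mul_ne_zero
    · exact sub_ne_zero.mpr (hzne _ heb)
    · apply mul_ne_zero (zpow_ne_zero _ ht0)
      rw [sub_ne_zero]
      intro h
      exact hzne _ heb₂ (inv_eq_one.mp h.symm)
  have hbin : RootIn D M (rho D cw b₂) := by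
    intro u
    exact x_mem_of_scale (fun v => xGL D F (rho D cw b₂) v) (fun a c => xGL_add D hD _ a c) (hGL D F θ t) t
      (pairing' D θ (rho D cw b₂)) (by rcases heb with h | h <;> simp [h]) ht0 htgen
      (fun u => hGL_conj D hD θ _ hθ hblt t ht0 u) M hhM _ hne htrick u
  have hn : nWordsGL D F cw ∈ M := cox_mem D hD M cw hcw (rho D cw b₂) hblt h2 hbin
  have hfill := fill_rho D hD M cw hcw θ s hθ hs he t ht0 htgen hn hhM hxM
  apply group_le_of_certOK D hD M cw hcw hn invL vanL hinv hvan [rho D cw b₂, rho D cw s] _ steps hcert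
  intro r hr
  rw [List.mem_cons, List.mem_singleton] at hr
  rcases hr with rfl | rfl
  · exact ⟨hblt, hbin⟩
  · exact hfill

end

end Cfsg.Agent.Helper14.Gen2
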