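import Cfsg.Agent.Helper40.GenNX
import Cfsg.Agent.S1025

/-!
Helper14 (S2405, Steinberg's generation of Chevalley groups by two elements): a checkable certificate format for
"a subgroup containing `n_w` and some root subgroups contains the whole Chevalley group".

State: a list `S` of roots whose root subgroups are known to lie in the subgroup `M`.  Steps:
* `(0, _, _, _)` : add the images of all members of `S` under the Weyl word `cw` (`M` contains `n_cw`);
* `(1, a, b, c)` : `a, b ∈ S`, and among the terms of the commutator formula for `(a, b)` the term of the root `c` is the only
  one which neither vanishes over `F` (constant in `vanL`) nor belongs to a root already in `S`; its constant is invertible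
  (in `invL`) and one of its exponents is `1`: add `c`;
* `(2, j, _, _)` : `± p_j ∈ S`: add the images of all members of `S` under the reflection in `p_j`.
-/

set_option autoImplicit false

namespace Cfsg.Agent.Helper14.Gen2

open Cfsg Cfsg.Lie Cfsg.Agent.Helper18 Cfsg.Agent.Helper40.GenNX

/-- add the images of the members of `S` under `f` -/
def addImg (S : List ℕ) (f : ℕ → ℕ) : List ℕ := S ++ (S.map f).filter (fun t => !S.contains t)

/-- one step of the closure computation -/
def stepS (D : ChevalleyDatum) (cw : List ℕ) (invL vanL : List ℤ) (S : List ℕ) (st : ℕ × ℕ × ℕ × ℕ) :
    Option (List ℕ) :=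
  match st.1 with
  | 0 => some (addImg S (rho D cw))
  | 1 =>
    let a := st.2.1
    let b := st.2.2.1
    let c := st.2.2.2
    if S.contains a && S.contains b && a != b && b != D.neg a && decide (c < D.nroots) then
      match (D.commTerms a b).filter (fun τ => !(vanL.contains τ.2.1) && !(S.contains τ.1)) with
      | [τ] => if τ.1 == c && invL.contains τ.2.1 && (τ.2.2.1 == 1 || τ.2.2.2 == 1) then some (c :: S) else none
      | _ => none
    else none
  | 2 =>
    let j := st.2.1
    if decide (j < D.rank) && S.contains (D.simple j) && S.contains (D.neg (D.simple j)) then
      some (addImg S (D.reflectRoot j))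
    else none
  | _ => none

/-- run a list of steps -/
def runS (D : ChevalleyDatum) (cw : List ℕ) (invL vanL : List ℤ) : List ℕ → List (ℕ × ℕ × ℕ × ℕ) → Option (List ℕ)
  | S, [] => some S
  | S, st :: rest =>
    match stepS D cw invL vanL S st with
    | none => none
    | some S' => runS D cw invL vanL S' rest

/-- the steps lead from `srcs` to a list containing all roots in `goal` -/
def reachOK (D : ChevalleyDatum) (cw : List ℕ) (invL vanL : List ℤ) (srcs : List ℕ)
    (steps : List (ℕ × ℕ × ℕ × ℕ)) (goal : List ℕ) : Bool :=
  match runS D cw invL vanL srcs steps with
  | none => false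
  | some S => goal.all fun s => S.contains s

/-- the steps lead from `srcs` to all fundamental roots and their negatives -/
def certOK (D : ChevalleyDatum) (cw : List ℕ) (invL vanL : List ℤ) (srcs : List ℕ)
    (steps : List (ℕ × ℕ × ℕ × ℕ)) : Bool :=
  reachOK D cw invL vanL srcs steps
    ((List.range D.rank).flatMap fun j => [D.simple j, D.neg (D.simple j)])

end Cfsg.Agent.Helper14.Gen2
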