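import Cfsg.Agent.Helper14.Gen2.CaseA

/-!
Helper14 (S2405): case A certificates for `G₂` (characteristic not 3), `B₂`, `F₄` (odd characteristic).
-/

set_option autoImplicit false

namespace Cfsg.Agent.Helper14.Gen2

open Cfsg Cfsg.Lie

/-- the certificate steps for `G2`, class `g2gen` (case A) -/
def stepsA_g2_g2gen : List (ℕ × ℕ × ℕ × ℕ) :=
  [(0, 0, 0, 0), (0, 0, 0, 0), (0, 0, 0, 0), (0, 0, 0, 0), (0, 0, 0, 0), (1, 2, 3, 0), (0, 0, 0, 0), (0, 0, 0, 0), (0, 0, 0, 0), (0, 0, 0, 0), (0, 0, 0, 0)]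

set_option maxRecDepth 100000 in
theorem okA_g2_g2gen : caseAOK chevG2 [0, 1] [1, -1, 2, -2, 3, -3] [] 5 2 stepsA_g2_g2gen = true := by decide +kernel

/-- the certificate steps for `G2`, class `g2c2` (case A) -/
def stepsA_g2_g2c2 : List (ℕ × ℕ × ℕ × ℕ) :=
  [(0, 0, 0, 0), (0, 0, 0, 0), (0, 0, 0, 0), (0, 0, 0, 0), (0, 0, 0, 0), (1, 2, 3, 0), (0, 0, 0, 0), (0, 0, 0, 0), (0, 0, 0, 0), (0, 0, 0, 0), (0, 0, 0, 0)]

set_option maxRecDepth 100000 in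
theorem okA_g2_g2c2 : caseAOK chevG2 [0, 1] [1, -1, 3, -3] [2, -2] 5 2 stepsA_g2_g2c2 = true := by decide +kernel

/-- the certificate steps for `B2`, class `good2` (case A) -/
def stepsA_b2_good2 : List (ℕ × ℕ × ℕ × ℕ) :=
  [(0, 0, 0, 0), (0, 0, 0, 0), (0, 0, 0, 0), (1, 1, 2, 0), (0, 0, 0, 0), (0, 0, 0, 0), (0, 0, 0, 0)]

set_option maxRecDepth 100000 in
theorem okA_b2_good2 : caseAOK chevB2 [0, 1] [1, -1, 2, -2] [] 2 1 stepsA_b2_good2 = true := by decide +kernel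

/-- the certificate steps for `F4`, class `good2` (case A) -/
def stepsA_f4_good2 : List (ℕ × ℕ × ℕ × ℕ) :=
  [(0, 0, 0, 0), (0, 0, 0, 0), (0, 0, 0, 0), (0, 0, 0, 0), (0, 0, 0, 0), (0, 0, 0, 0), (0, 0, 0, 0), (0, 0, 0, 0), (0, 0, 0, 0), (0, 0, 0, 0), (0, 0, 0, 0), (2, 0, 0, 0), (2, 1, 0, 0), (0, 0, 0, 0), (0, 0, 0, 0), (0, 0, 0, 0), (1, 3, 18, 0), (0, 0, 0, 0), (0, 0, 0, 0), (0, 0, 0, 0), (0, 0, 0, 0), (0, 0, 0, 0), (0, 0, 0, 0), (0, 0, 0, 0), (0, 0, 0, 0), (0, 0, 0, 0), (0, 0, 0, 0), (0, 0, 0, 0), (2, 0, 0, 0), (2, 1, 0, 0), (2, 2, 0, 0)]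

set_option maxRecDepth 100000 in
theorem okA_f4_good2 : caseAOK chevF4 [0, 1, 2, 3] [1, -1, 2, -2] [] 1 9 stepsA_f4_good2 = true := by decide +kernel

end Cfsg.Agent.Helper14.Gen2
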