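import Cfsg.Agent.Helper14.Gen2.CaseA

/-!
Helper14 (S2405): case B certificates for `D₄`, `B₂` and `F₄` in characteristic 2, `G₂` in characteristic 3.
-/

set_option autoImplicit false

namespace Cfsg.Agent.Helper14.Gen2

open Cfsg Cfsg.Lie

/-- the certificate steps for `D4`, class `simply` (case B) -/
def stepsB_d4_simply : List (ℕ × ℕ × ℕ × ℕ) :=
  [(0, 0, 0, 0), (0, 0, 0, 0), (0, 0, 0, 0), (0, 0, 0, 0), (0, 0, 0, 0), (2, 0, 0, 0), (2, 1, 0, 0)]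

set_option maxRecDepth 100000 in
theorem okB_d4_simply : caseBOK chevD4 [0, 1, 2, 3] [1, -1] [] 0 9 10 stepsB_d4_simply = true := by decide +kernel

/-- the certificate steps for `B2`, class `bad2` (case B) -/
def stepsB_b2_bad2 : List (ℕ × ℕ × ℕ × ℕ) :=
  [(0, 0, 0, 0), (0, 0, 0, 0), (0, 0, 0, 0)]

set_option maxRecDepth 100000 in
theorem okB_b2_bad2 : caseBOK chevB2 [0, 1] [1, -1] [2, -2] 0 2 3 stepsB_b2_bad2 = true := by decide +kernel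

/-- the certificate steps for `F4`, class `bad2` (case B) -/
def stepsB_f4_bad2 : List (ℕ × ℕ × ℕ × ℕ) :=
  [(0, 0, 0, 0), (0, 0, 0, 0), (0, 0, 0, 0), (0, 0, 0, 0), (0, 0, 0, 0), (0, 0, 0, 0), (0, 0, 0, 0), (0, 0, 0, 0), (0, 0, 0, 0), (0, 0, 0, 0), (0, 0, 0, 0), (2, 0, 0, 0), (2, 1, 0, 0), (2, 2, 0, 0), (0, 0, 0, 0), (0, 0, 0, 0)]

set_option maxRecDepth 100000 in
theorem okB_f4_bad2 : caseBOK chevF4 [0, 1, 2, 3] [1, -1] [2, -2] 0 2 12 stepsB_f4_bad2 = true := by decide +kernel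

/-- the certificate steps for `G2`, class `g2c3` (case B) -/
def stepsB_g2_g2c3 : List (ℕ × ℕ × ℕ × ℕ) :=
  [(0, 0, 0, 0), (0, 0, 0, 0), (0, 0, 0, 0), (0, 0, 0, 0), (0, 0, 0, 0)]

set_option maxRecDepth 100000 in
theorem okB_g2_g2c3 : caseBOK chevG2 [0, 1] [1, -1, 2, -2] [3, -3] 0 6 4 stepsB_g2_g2c3 = true := by decide +kernel

end Cfsg.Agent.Helper14.Gen2
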