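import Cfsg.Agent.Helper14.Gen2.InstE
import Cfsg.Agent.Helper14.Gen2.InstA
import Cfsg.Agent.Helper14.Gen2.InstB
import Cfsg.Agent.Helper40.GenQ2F4

/-!
Helper14 (S2405): the seven types, assembled from the generic cases A and B, their certificates, and the groups `D₄(2)`,
`F₄(2)` of helper40.
-/

set_option autoImplicit false

namespace Cfsg.Agent.Helper14.Gen2

open Cfsg Cfsg.Lie

section
variable {F : Type*} [Field F]

theorem inv_simply : ∀ C ∈ ([1, -1] : List ℤ), ((C : ℤ) : F) ≠ 0 := by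
  intro C hC
  simp only [List.mem_cons, List.not_mem_nil, or_false] at hC
  rcases hC with rfl | rfl <;> simp

theorem van_nil : ∀ C ∈ ([] : List ℤ), ((C : ℤ) : F) = 0 := by
  intro C hC
  simp at hC

theorem inv_two (h2 : (2 : F) ≠ 0) : ∀ C ∈ ([1, -1, 2, -2] : List ℤ), ((C : ℤ) : F) ≠ 0 := by
  intro C hC
  simp only [List.mem_cons, List.not_mem_nil, or_false] at hC
  rcases hC with rfl | rfl | rfl | rfl <;> simp [h2]

theorem van_two (h2 : (2 : F) = 0) : ∀ C ∈ ([2, -2] : List ℤ), ((C : ℤ) : F) = 0 := by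
  intro C hC
  simp only [List.mem_cons, List.not_mem_nil, or_false] at hC
  rcases hC with rfl | rfl <;> simp [h2]

theorem inv_three (h3 : (3 : F) ≠ 0) : ∀ C ∈ ([1, -1, 3, -3] : List ℤ), ((C : ℤ) : F) ≠ 0 := by
  intro C hC
  simp only [List.mem_cons, List.not_mem_nil, or_false] at hC
  rcases hC with rfl | rfl | rfl | rfl <;> simp [h3]

theorem van_three (h3 : (3 : F) = 0) : ∀ C ∈ ([3, -3] : List ℤ), ((C : ℤ) : F) = 0 := by
  intro C hC
  simp only [List.mem_cons, List.not_mem_nil, or_false] at hC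
  rcases hC with rfl | rfl <;> simp [h3]

theorem inv_two_three (h2 : (2 : F) ≠ 0) (h3 : (3 : F) ≠ 0) :
    ∀ C ∈ ([1, -1, 2, -2, 3, -3] : List ℤ), ((C : ℤ) : F) ≠ 0 := by
  intro C hC
  simp only [List.mem_cons, List.not_mem_nil, or_false] at hC
  rcases hC with rfl | rfl | rfl | rfl | rfl | rfl <;> simp [h2, h3]

theorem two_lt_card [Fintype F] (h : ∃ x : F, x ≠ 0 ∧ x ≠ 1) : 2 < Fintype.card F := by
  obtain ⟨x, hx0, hx1⟩ := h
  rw [Fintype.two_lt_card_iff]
  exact ⟨0, 1, x, zero_ne_one, hx0.symm, hx1.symm⟩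

end

section
variable {F : Type*} [Field F] [Fintype F]

theorem gen_E6 : ∃ a b : ↥(chevE6.group F), Subgroup.closure ({a, b} : Set ↥(chevE6.group F)) = ⊤ :=
  caseA chevE6 (by simp) _ _ _ _ _ _ okA_e6_simply inv_simply van_nil

theorem gen_E7 : ∃ a b : ↥(chevE7.group F), Subgroup.closure ({a, b} : Set ↥(chevE7.group F)) = ⊤ :=
  caseA chevE7 (by simp) _ _ _ _ _ _ okA_e7_simply inv_simply van_nil

theorem gen_E8 : ∃ a b : ↥(chevE8.group F), Subgroup.closure ({a, b} : Set ↥(chevE8.group F)) = ⊤ :=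
  caseA chevE8 (by simp) _ _ _ _ _ _ okA_e8_simply inv_simply van_nil

theorem gen_G2 (hF : ∃ x : F, x ≠ 0 ∧ x ≠ 1) :
    ∃ a b : ↥(chevG2.group F), Subgroup.closure ({a, b} : Set ↥(chevG2.group F)) = ⊤ := by
  by_cases h3 : (3 : F) = 0
  · have h2 : (2 : F) ≠ 0 := by
      intro h2
      have : (1 : F) = 3 - 2 := by norm_num
      rw [h3, h2, sub_zero] at this
      exact one_ne_zero this
    exact caseB chevG2 (by simp) (two_lt_card hF) _ _ _ _ _ _ _ okB_g2_g2c3 (inv_two h2) (van_three h3)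
  · by_cases h2 : (2 : F) = 0
    · exact caseA chevG2 (by simp) _ _ _ _ _ _ okA_g2_g2c2 (inv_three h3) (van_two h2)
    · exact caseA chevG2 (by simp) _ _ _ _ _ _ okA_g2_g2gen (inv_two_three h2 h3) van_nil

theorem gen_B2 (hF : ∃ x : F, x ≠ 0 ∧ x ≠ 1) :
    ∃ a b : ↥(chevB2.group F), Subgroup.closure ({a, b} : Set ↥(chevB2.group F)) = ⊤ := by
  by_cases h2 : (2 : F) = 0
  · exact caseB chevB2 (by simp) (two_lt_card hF) _ _ _ _ _ _ _ okB_b2_bad2 inv_simply (van_two h2)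
  · exact caseA chevB2 (by simp) _ _ _ _ _ _ okA_b2_good2 (inv_two h2) van_nil

/-- `B₂(q)`, `q` odd, is generated by two elements -/
theorem gen_B2_odd (h2 : (2 : F) ≠ 0) :
    ∃ a b : ↥(chevB2.group F), Subgroup.closure ({a, b} : Set ↥(chevB2.group F)) = ⊤ :=
  caseA chevB2 (by simp) _ _ _ _ _ _ okA_b2_good2 (inv_two h2) van_nil

theorem gen_F4 : ∃ a b : ↥(chevF4.group F), Subgroup.closure ({a, b} : Set ↥(chevF4.group F)) = ⊤ := by
  by_cases h2 : (2 : F) = 0
  · by_cases hq : ∀ x : F, x = 0 ∨ x = 1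
    · exact Cfsg.Agent.Helper40.GenQ2.gen_F4_q2 hq
    · push Not at hq
      exact caseB chevF4 (by simp) (two_lt_card hq) _ _ _ _ _ _ _ okB_f4_bad2 inv_simply (van_two h2)
  · exact caseA chevF4 (by simp) _ _ _ _ _ _ okA_f4_good2 (inv_two h2) van_nil

theorem gen_D4 : ∃ a b : ↥(chevD4.group F), Subgroup.closure ({a, b} : Set ↥(chevD4.group F)) = ⊤ := by
  by_cases hq : ∀ x : F, x = 0 ∨ x = 1
  · exact Cfsg.Agent.Helper40.GenQ2.gen_D4_q2 hq
  · push Not at hq
    exact caseB chevD4 (by simp) (two_lt_card hq) _ _ _ _ _ _ _ okB_d4_simply inv_simply van_nil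

end

end Cfsg.Agent.Helper14.Gen2
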