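import Cfsg.Agent.Helper14.Gen2.Defs

/-!
Helper14 (S2405): soundness of the closure certificates of `Gen2/Defs.lean`.
-/

set_option autoImplicit false

namespace Cfsg.Agent.Helper14.Gen2

open Cfsg Cfsg.Lie Cfsg.Agent.Helper18 Cfsg.Agent.Helper40.GenNX

section
variable {F : Type*} [Field F] (D : ChevalleyDatum)
  (hD : D ∈ [chevG2, chevB2, chevD4, chevF4, chevE6, chevE7, chevE8])
include hD

/-- additivity of the root elements in `GL` -/
theorem xGL_add (s : ℕ) (t u : F) : xGL D F s (t + u) = xGL D F s t * xGL D F s u := by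
  have htri := triOK_of_mem D hD
  have hadd := Cfsg.Agent.Helper40.ChevAdd.addOK_of_mem hD
  apply Units.ext
  rw [Units.val_mul, xGL_val D _ htri, xGL_val D _ htri, xGL_val D _ htri]
  exact (Cfsg.Agent.Helper40.ChevAdd.x_add D hadd s t u).symm

theorem xGL_zero (s : ℕ) : xGL D F s (0 : F) = 1 := by
  have := xGL_add D hD (F := F) s 0 0
  simpa using this

theorem xGL_neg (s : ℕ) (t : F) : xGL D F s (-t) = (xGL D F s t)⁻¹ := by
  apply eq_inv_of_mul_eq_one_left
  rw [← xGL_add D hD, neg_add_cancel, xGL_zero D hD]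

/-- (CLW) conjugation by `n_w ∈ M` moves root subgroups inside `M` -/
theorem rootIn_nWords (M : Subgroup (GL D.Idx F)) (w : List ℕ) (hw : ∀ i ∈ w, i < D.rank)
    (hn : nWordsGL D F w ∈ M) (s : ℕ) (hs : s < D.nroots) (h : RootIn D M s) :
    rho D w s < D.nroots ∧ RootIn D M (rho D w s) := by
  have h31 : NConjHyp D F := fun i s hi hs => Cfsg.Agent.S1031.result D hD i s hi hs
  have hrefl : ∀ i s, i < D.rank → s < D.nroots → D.reflectRoot i s < D.nroots :=
    fun i s hi hs => (Cfsg.Agent.Helper36.reflectRoot_facts D hD i hi s hs).1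
  obtain ⟨hlt, η, hη, hconj⟩ := nWordsGL_conj_xGL D hD h31 hrefl w hw s hs
  refine ⟨hlt, ?_⟩
  intro t
  have e1 := hconj ((η : F) * t)
  have e2 : (η : F) * ((η : F) * t) = t := by
    rcases hη with rfl | rfl <;> simp
  rw [e2] at e1
  have e3 : xGL D F (rho D w s) t = nWordsGL D F w * xGL D F s ((η : F) * t) * (nWordsGL D F w)⁻¹ := by
    rw [e1, mul_assoc, mul_inv_cancel, mul_one]
  rw [e3]
  exact M.mul_mem (M.mul_mem hn (h _)) (M.inv_mem hn)

omit hD in
/-- (CLR) `n_{p_j} ∈ M` as soon as `X_{p_j}, X_{-p_j} ⊆ M` -/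
theorem nGL_mem_of_rootIn (M : Subgroup (GL D.Idx F)) (j : ℕ)
    (h1 : RootIn D M (D.simple j)) (h2 : RootIn D M (D.neg (D.simple j))) : nWordsGL D F [j] ∈ M := by
  simp only [nWordsGL, List.map_cons, List.map_nil, List.prod_cons, List.prod_nil, mul_one, wordGL,
    ChevalleyDatum.nWord]
  exact M.mul_mem (h1 _) (M.mul_mem (h2 _) (h1 _))

end

/-- the product of a list, all of whose members but one lie in `M`, lies in `M` only if the last member does -/
theorem mem_of_prod_mem {G : Type*} [Group G] (M : Subgroup G) (l₁ l₂ : List G) (g : G)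
    (h1 : ∀ x ∈ l₁, x ∈ M) (h2 : ∀ x ∈ l₂, x ∈ M) (h : (l₁ ++ g :: l₂).prod ∈ M) : g ∈ M := by
  rw [List.prod_append, List.prod_cons] at h
  have ha : l₁.prod ∈ M := Subgroup.list_prod_mem M h1
  have hb : l₂.prod ∈ M := Subgroup.list_prod_mem M h2
  have : g = l₁.prod⁻¹ * (l₁.prod * (g * l₂.prod)) * l₂.prod⁻¹ := by group
  rw [this]
  exact M.mul_mem (M.mul_mem (M.inv_mem ha) h) (M.inv_mem hb)

section
variable {F : Type*} [Field F] (D : ChevalleyDatum)
  (hD : D ∈ [chevG2, chevB2, chevD4, chevF4, chevE6, chevE7, chevE8])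
include hD

/-- the commutator word of two root elements of `M` lies in `M` -/
theorem commWord_mem (M : Subgroup (GL D.Idx F)) (a b : ℕ) (ha : a < D.nroots) (hb : b < D.nroots)
    (hab : b ≠ a) (hba : b ≠ D.neg a) (hRa : RootIn D M a) (hRb : RootIn D M b) (t u : F) :
    wordGL D F (D.commWord F a b t u) ∈ M := by
  have htri := triOK_of_mem D hD
  have h1 := Cfsg.Agent.S1025.result (F := F) D hD a b ha hb hab hba t u
  have e : wordGL D F (D.commWord F a b t u) = (xGL D F a t * xGL D F b u)⁻¹ * (xGL D F b u * xGL D F a t) := by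
    rw [eq_inv_mul_iff_mul_eq]
    apply Units.ext
    simp only [Units.val_mul, xGL_val D _ htri, wordGL_val D _ htri]
    exact h1.symm
  rw [e]
  exact M.mul_mem (M.inv_mem (M.mul_mem (hRa _) (hRb _))) (M.mul_mem (hRb _) (hRa _))

/-- (CLC) extraction of the single unknown term of a commutator -/
theorem rootIn_of_commTerms (M : Subgroup (GL D.Idx F)) (invL vanL : List ℤ)
    (hinv : ∀ C ∈ invL, ((C : ℤ) : F) ≠ 0) (hvan : ∀ C ∈ vanL, ((C : ℤ) : F) = 0)
    (S : List ℕ) (hS : ∀ s ∈ S, s < D.nroots ∧ RootIn D M s) (a b : ℕ) (ha : a ∈ S) (hb : b ∈ S)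
    (hab : a ≠ b) (hba : b ≠ D.neg a) (τ : ℕ × ℤ × ℕ × ℕ)
    (hτ : (D.commTerms a b).filter (fun τ => !(vanL.contains τ.2.1) && !(S.contains τ.1)) = [τ])
    (hC : τ.2.1 ∈ invL) (hij : τ.2.2.1 = 1 ∨ τ.2.2.2 = 1) : RootIn D M τ.1 := by
  obtain ⟨l₁, l₂, hl, hl₁, -, hl₂⟩ := List.filter_eq_cons_iff.mp hτ
  rw [List.filter_eq_nil_iff] at hl₂
  have hC0 := hinv _ hC
  -- the known factors
  have hknown : ∀ (t u : F) (σ : ℕ × ℤ × ℕ × ℕ),
      ¬ ((!(vanL.contains σ.2.1) && !(S.contains σ.1)) = true) →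
      xGL D F σ.1 ((σ.2.1 : F) * (-t) ^ σ.2.2.1 * u ^ σ.2.2.2) ∈ M := by
    intro t u σ hσ
    simp only [Bool.and_eq_true, Bool.not_eq_eq_eq_not, Bool.not_true, not_and, Bool.not_eq_false,
      List.contains_iff_mem] at hσ
    by_cases hv : σ.2.1 ∈ vanL
    · rw [hvan _ hv, zero_mul, zero_mul, xGL_zero D hD]
      exact M.one_mem
    · have : vanL.contains σ.2.1 = false := by
        rw [Bool.eq_false_iff]; intro h; exact hv (List.contains_iff_mem.mp h)
      exact (hS _ (hσ this)).2 _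
  intro v
  -- the parameters
  have key : ∀ t u : F, xGL D F τ.1 ((τ.2.1 : F) * (-t) ^ τ.2.2.1 * u ^ τ.2.2.2) ∈ M := by
    intro t u
    have hw := commWord_mem D hD M a b (hS a ha).1 (hS b hb).1 (Ne.symm hab) hba (hS a ha).2 (hS b hb).2 t u
    unfold ChevalleyDatum.commWord at hw
    rw [hl] at hw
    simp only [wordGL, List.map_append, List.map_cons, List.map_map] at hw
    refine mem_of_prod_mem M _ _ _ ?_ ?_ hw
    · intro x hx
      obtain ⟨σ, hσ, rfl⟩ := List.mem_map.mp hx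
      exact hknown t u σ (hl₁ σ hσ)
    · intro x hx
      obtain ⟨σ, hσ, rfl⟩ := List.mem_map.mp hx
      exact hknown t u σ (hl₂ σ hσ)
  rcases hij with h1 | h1
  · have := key (-(v / (τ.2.1 : F))) 1
    rw [h1, neg_neg, pow_one, one_pow, mul_one, mul_div_cancel₀ _ hC0] at this
    exact this
  · have := key (-1) (v / (τ.2.1 : F))
    rw [h1, neg_neg, one_pow, mul_one, pow_one, mul_div_cancel₀ _ hC0] at this
    exact this

omit hD in
theorem mem_addImg {S : List ℕ} {f : ℕ → ℕ} {s : ℕ} (h : s ∈ addImg S f) : s ∈ S ∨ ∃ s₀ ∈ S, s = f s₀ := by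
  unfold addImg at h
  rw [List.mem_append] at h
  rcases h with h | h
  · exact Or.inl h
  · obtain ⟨s₀, hs₀, rfl⟩ := List.mem_map.mp (List.mem_filter.mp h).1
    exact Or.inr ⟨s₀, hs₀, rfl⟩

/-- soundness of one step -/
theorem rootIn_of_stepS (M : Subgroup (GL D.Idx F)) (cw : List ℕ) (hcw : ∀ i ∈ cw, i < D.rank)
    (hn : nWordsGL D F cw ∈ M) (invL vanL : List ℤ)
    (hinv : ∀ C ∈ invL, ((C : ℤ) : F) ≠ 0) (hvan : ∀ C ∈ vanL, ((C : ℤ) : F) = 0)
    (st : ℕ × ℕ × ℕ × ℕ) (S S' : List ℕ) (hS : ∀ s ∈ S, s < D.nroots ∧ RootIn D M s)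
    (hstep : stepS D cw invL vanL S st = some S') : ∀ s ∈ S', s < D.nroots ∧ RootIn D M s := by
  obtain ⟨tag, a, b, c⟩ := st
  unfold stepS at hstep
  simp only at hstep
  split at hstep
  · simp only [Option.some.injEq] at hstep
    subst hstep
    intro s hs
    rcases mem_addImg hs with h | ⟨s₀, hs₀, rfl⟩
    · exact hS s h
    · exact rootIn_nWords D hD M cw hcw hn s₀ (hS s₀ hs₀).1 (hS s₀ hs₀).2
  · split_ifs at hstep with hcond
    simp only [Bool.and_eq_true, List.contains_iff_mem, bne_iff_ne, ne_eq, decide_eq_true_eq] at hcond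
    obtain ⟨⟨⟨⟨ha, hb⟩, hab⟩, hba⟩, hc⟩ := hcond
    split at hstep
    · rename_i τ hτ
      split_ifs at hstep with hcond2
      simp only [Option.some.injEq] at hstep
      subst hstep
      simp only [Bool.and_eq_true, beq_iff_eq, List.contains_iff_mem, Bool.or_eq_true] at hcond2
      obtain ⟨⟨hτc, hC⟩, hij⟩ := hcond2
      intro s hs
      rcases List.mem_cons.mp hs with rfl | h
      · refine ⟨hc, ?_⟩
        rw [← hτc]
        exact rootIn_of_commTerms D hD M invL vanL hinv hvan S hS a b ha hb hab hba τ hτ hC hij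
      · exact hS s h
    · exact absurd hstep (by simp)
  · split_ifs at hstep with hcond
    simp only [Bool.and_eq_true, decide_eq_true_eq, List.contains_iff_mem] at hcond
    obtain ⟨⟨hj, h1⟩, h2⟩ := hcond
    simp only [Option.some.injEq] at hstep
    subst hstep
    have hnj : nWordsGL D F [a] ∈ M := nGL_mem_of_rootIn D M a (hS _ h1).2 (hS _ h2).2
    intro s hs
    rcases mem_addImg hs with h | ⟨s₀, hs₀, rfl⟩
    · exact hS s h
    · have := rootIn_nWords D hD M [a] (by intro i hi; rw [List.mem_singleton] at hi; rw [hi]; exact hj) hnj s₀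
        (hS s₀ hs₀).1 (hS s₀ hs₀).2
      simpa [rho] using this
  · exact absurd hstep (by simp)

/-- (CLM) soundness of `runS` -/
theorem rootIn_of_runS (M : Subgroup (GL D.Idx F)) (cw : List ℕ) (hcw : ∀ i ∈ cw, i < D.rank)
    (hn : nWordsGL D F cw ∈ M) (invL vanL : List ℤ)
    (hinv : ∀ C ∈ invL, ((C : ℤ) : F) ≠ 0) (hvan : ∀ C ∈ vanL, ((C : ℤ) : F) = 0)
    (steps : List (ℕ × ℕ × ℕ × ℕ)) (S S' : List ℕ) (hS : ∀ s ∈ S, s < D.nroots ∧ RootIn D M s)
    (hrun : runS D cw invL vanL S steps = some S') : ∀ s ∈ S', s < D.nroots ∧ RootIn D M s := by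
  induction steps generalizing S with
  | nil =>
    simp only [runS, Option.some.injEq] at hrun
    subst hrun
    exact hS
  | cons st rest ih =>
    simp only [runS] at hrun
    split at hrun
    · exact absurd hrun (by simp)
    · rename_i S₁ hS₁
      exact ih S₁ (rootIn_of_stepS D hD M cw hcw hn invL vanL hinv hvan st S S₁ hS hS₁) hrun

/-- reaching a list of roots -/
theorem rootIn_of_reachOK (M : Subgroup (GL D.Idx F)) (cw : List ℕ) (hcw : ∀ i ∈ cw, i < D.rank)
    (hn : nWordsGL D F cw ∈ M) (invL vanL : List ℤ)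
    (hinv : ∀ C ∈ invL, ((C : ℤ) : F) ≠ 0) (hvan : ∀ C ∈ vanL, ((C : ℤ) : F) = 0)
    (srcs : List ℕ) (hsrc : ∀ s ∈ srcs, s < D.nroots ∧ RootIn D M s) (steps : List (ℕ × ℕ × ℕ × ℕ))
    (goal : List ℕ) (h : reachOK D cw invL vanL srcs steps goal = true) :
    ∀ s ∈ goal, s < D.nroots ∧ RootIn D M s := by
  unfold reachOK at h
  split at h
  · exact absurd h (by simp)
  · rename_i S hrun
    rw [List.all_eq_true] at h
    intro s hs
    exact rootIn_of_runS D hD M cw hcw hn invL vanL hinv hvan steps srcs S hsrc hrun s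
      (List.contains_iff_mem.mp (h s hs))

/-- (CLF) a subgroup with a good certificate contains the Chevalley group -/
theorem group_le_of_certOK (M : Subgroup (GL D.Idx F)) (cw : List ℕ) (hcw : ∀ i ∈ cw, i < D.rank)
    (hn : nWordsGL D F cw ∈ M) (invL vanL : List ℤ)
    (hinv : ∀ C ∈ invL, ((C : ℤ) : F) ≠ 0) (hvan : ∀ C ∈ vanL, ((C : ℤ) : F) = 0)
    (srcs : List ℕ) (hsrc : ∀ s ∈ srcs, s < D.nroots ∧ RootIn D M s) (steps : List (ℕ × ℕ × ℕ × ℕ))
    (h : certOK D cw invL vanL srcs steps = true) : D.group F ≤ M := by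
  have hall := rootIn_of_reachOK D hD M cw hcw hn invL vanL hinv hvan srcs hsrc steps _ h
  apply group_le_of_fund D hD M
  intro j hj
  constructor
  · exact (hall (D.simple j) (List.mem_flatMap.mpr ⟨j, List.mem_range.mpr hj, by simp⟩)).2
  · exact (hall (D.neg (D.simple j)) (List.mem_flatMap.mpr ⟨j, List.mem_range.mpr hj, by simp⟩)).2

end

end Cfsg.Agent.Helper14.Gen2
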