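import Cfsg.Agent.Helper14.Gen2.Sound
import Cfsg.Agent.Helper14.Gen2.Abs
import Cfsg.Agent.Helper18.TorusH
import Cfsg.Agent.Helper18.ConjAll
import Cfsg.Agent.Helper18.Monomial
import Cfsg.Agent.S1038
import Cfsg.Agent.Helper40.GenQ2D4

/-!
Helper14 (S2405): the torus elements `h_θ(t)` inside `GL`, their action on root elements, their orders, and their
conjugates under the monomial group.
-/

set_option autoImplicit false

namespace Cfsg.Agent.Helper14.Gen2

open Cfsg Cfsg.Lie Cfsg.Agent.Helper18 Cfsg.Agent.Helper40.GenNX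

/-- the torus element `h_θ(t)` as an element of `GL` -/
noncomputable def hGL (D : ChevalleyDatum) (F : Type*) [Field F] (θ : ℕ) (t : F) : GL D.Idx F :=
  wordGL D F (D.hWord θ t)

/-- `H ≤ N` -/
theorem diag_le_mono {F : Type*} [Field F] (D : ChevalleyDatum) :
    D.diagonalSubgroup F ≤ D.monomialSubgroup F := by
  unfold ChevalleyDatum.monomialSubgroup
  exact le_sup_left

section
variable {F : Type*} [Field F] (D : ChevalleyDatum)
  (hD : D ∈ [chevG2, chevB2, chevD4, chevF4, chevE6, chevE7, chevE8])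
include hD

/-- `h_θ(t) x_s(u) h_θ(t)⁻¹ = x_s(t^⟨s,θ⟩ u)` -/
theorem hGL_conj (θ s : ℕ) (hθ : θ < D.nroots) (hs : s < D.nroots) (t : F) (ht : t ≠ 0) (u : F) :
    hGL D F θ t * xGL D F s u * (hGL D F θ t)⁻¹ = xGL D F s (t ^ pairing' D θ s * u) := by
  rw [hMat_comm_xGL D hD (hGL D F θ t) θ hθ t ht (hWordGL_val D hD θ t) s hs u, mul_assoc, mul_inv_cancel,
    mul_one]

theorem hGL_mem_diag (θ : ℕ) (hθ : θ < D.nroots) (t : F) (ht : t ≠ 0) : hGL D F θ t ∈ D.diagonalSubgroup F :=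
  hWordGL_mem_diagonalSubgroup D hD θ hθ t ht

theorem hGL_mem_group (θ : ℕ) (hθ : θ < D.nroots) (t : F) (ht : t ≠ 0) : hGL D F θ t ∈ D.group F :=
  (Cfsg.Agent.S1043.result (F := F) D hD).2.1
    (diag_le_mono D (hGL_mem_diag D hD θ hθ t ht))

/-- the diagonal subgroup has exponent dividing `q - 1` -/
theorem diag_pow_card [Fintype F] (g : GL D.Idx F) (hg : g ∈ D.diagonalSubgroup F) :
    g ^ (Fintype.card F - 1) = 1 := by
  rw [← torusHom_range D hD] at hg
  obtain ⟨c, rfl⟩ := hg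
  rw [← map_pow]
  have : c ^ (Fintype.card F - 1) = 1 := by
    funext i
    rw [Pi.pow_apply, Pi.one_apply]
    apply Units.ext
    rw [Units.val_pow_eq_pow_val, Units.val_one]
    exact FiniteField.pow_card_sub_one_eq_one _ (c i).ne_zero
  rw [this, map_one]

/-- the diagonal subgroup is commutative -/
theorem diag_commute (g₁ g₂ : GL D.Idx F) (h₁ : g₁ ∈ D.diagonalSubgroup F) (h₂ : g₂ ∈ D.diagonalSubgroup F) :
    Commute g₁ g₂ := by
  rw [← torusHom_range D hD] at h₁ h₂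
  obtain ⟨c₁, rfl⟩ := h₁
  obtain ⟨c₂, rfl⟩ := h₂
  exact (Commute.all c₁ c₂).map (torusHom D F)

/-- the monomial subgroup normalises the diagonal subgroup -/
theorem conj_mem_diag (n g : GL D.Idx F) (hn : n ∈ D.monomialSubgroup F) (hg : g ∈ D.diagonalSubgroup F) :
    n * g * n⁻¹ ∈ D.diagonalSubgroup F := by
  have hnorm := Cfsg.Agent.S1038.result (F := F) D hD
  have := hnorm.conj_mem ⟨g, diag_le_mono D hg⟩
    (Subgroup.mem_subgroupOf.mpr hg) ⟨n, hn⟩
  exact Subgroup.mem_subgroupOf.mp this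

/-- the action of `n_w h n_w⁻¹` on the root subgroup `X_s`, `s = w s₂` -/
theorem conj_hGL_conj (w : List ℕ) (hw : ∀ i ∈ w, i < D.rank) (θ s₂ : ℕ) (hθ : θ < D.nroots)
    (hs₂ : s₂ < D.nroots) (t : F) (ht : t ≠ 0) (u : F) :
    (nWordsGL D F w * hGL D F θ t * (nWordsGL D F w)⁻¹) * xGL D F (rho D w s₂) u *
      (nWordsGL D F w * hGL D F θ t * (nWordsGL D F w)⁻¹)⁻¹ =
    xGL D F (rho D w s₂) (t ^ pairing' D θ s₂ * u) := by
  obtain ⟨-, η, hη, hconj⟩ := Cfsg.Agent.Helper40.GenQ2.word_conj D hD (F := F) w hw s₂ hs₂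
  have hηη : ∀ v : F, (η : F) * ((η : F) * v) = v := Cfsg.Agent.Helper40.GenQ2.eta_mul_eta η hη
  set n := nWordsGL D F w with hn
  set h := hGL D F θ t with hh
  have e1 : xGL D F (rho D w s₂) u = n * xGL D F s₂ ((η : F) * u) * n⁻¹ := by
    rw [hconj, hηη]
  have e2 : (n * h * n⁻¹) * (n * xGL D F s₂ ((η : F) * u) * n⁻¹) * (n * h * n⁻¹)⁻¹ =
      n * (h * xGL D F s₂ ((η : F) * u) * h⁻¹) * n⁻¹ := by group
  rw [e1, e2, hh, hGL_conj D hD θ s₂ hθ hs₂ t ht, hconj]
  congr 1
  rw [← mul_assoc, mul_comm (η : F), mul_assoc, hηη]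

/-- powers of root elements -/
theorem xGL_pow (s : ℕ) (t : F) (k : ℕ) : xGL D F s t ^ k = xGL D F s ((k : F) * t) := by
  induction k with
  | zero => simp [xGL_zero D hD]
  | succ k ih =>
    rw [pow_succ, ih, ← xGL_add D hD]
    congr 1
    push_cast
    ring

/-- root elements have order dividing the characteristic -/
theorem xGL_pow_char (s : ℕ) (t : F) (p : ℕ) (hp : (p : F) = 0) : xGL D F s t ^ p = 1 := by
  rw [xGL_pow D hD, hp, zero_mul, xGL_zero D hD]

/-- the conjugate of a non-trivial root element by `n_w` is a non-trivial root element -/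
theorem exists_xGL_rho_mem (M : Subgroup (GL D.Idx F)) (w : List ℕ) (hw : ∀ i ∈ w, i < D.rank)
    (hn : nWordsGL D F w ∈ M) (s : ℕ) (hs : s < D.nroots) (c : F) (hc : c ≠ 0) (h : xGL D F s c ∈ M) :
    rho D w s < D.nroots ∧ ∃ c' : F, c' ≠ 0 ∧ xGL D F (rho D w s) c' ∈ M := by
  obtain ⟨hlt, η, hη, hconj⟩ := Cfsg.Agent.Helper40.GenQ2.word_conj D hD (F := F) w hw s hs
  refine ⟨hlt, (η : F) * c, ?_, ?_⟩
  · rcases hη with rfl | rfl <;> simpa using hc
  · rw [← hconj]
    exact M.mul_mem (M.mul_mem hn h) (M.inv_mem hn)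

end

/-- `q - 1` is prime to the characteristic -/
theorem coprime_card_sub_one {F : Type*} [Field F] [Fintype F] (p : ℕ) [CharP F p] :
    Nat.Coprime (Fintype.card F - 1) p := by
  have hdvd : p ∣ Fintype.card F := by
    have : ((Fintype.card F : ℕ) : F) = 0 := Nat.cast_card_eq_zero F
    exact (CharP.cast_eq_zero_iff F p _).mp this
  have hpos : 0 < Fintype.card F := Fintype.card_pos
  have h1 : Nat.Coprime (Fintype.card F - 1) (Fintype.card F) := by
    have : Fintype.card F = (Fintype.card F - 1) + 1 := by omega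
    rw [this, Nat.add_sub_cancel]
    exact (Nat.coprime_self_add_right.mpr (Nat.coprime_one_right _))
  exact Nat.Coprime.coprime_dvd_right hdvd h1

end Cfsg.Agent.Helper14.Gen2
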